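import Mathlib.CategoryTheory.Galois.Topology
import Mathlib.CategoryTheory.Galois.Examples
import Mathlib.CategoryTheory.Action.Continuous
import Mathlib.CategoryTheory.Action.Concrete
import Mathlib.Topology.Category.FinTopCat
import Mathlib.Topology.Algebra.OpenSubgroup
import Mathlib.Topology.Algebra.Group.Quotient

/-!
# Automorphisms of the forgetful functor of continuous finite `G`-sets
-/

set_option linter.style.haveILetI false

universe u

open CategoryTheory CategoryTheory.PreGaloisCategory
open scoped FintypeCatDiscrete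

namespace Groth.Pi1Profinite

theorem aut_forget_contAction (G : Type u) [Group G] [TopologicalSpace G] [IsTopologicalGroup G] :
    ∃ ι : G →* Aut (forget₂ (ContAction FintypeCat.{u} G) FintypeCat.{u}),
      Continuous ι ∧
      (∀ (g : G) (X : ContAction FintypeCat.{u} G) (x : X.obj.V), (ι g).hom.app X x = (X.obj.ρ g).hom x) ∧
      DenseRange ι ∧
      ∀ (Q : Type u) [Group Q] [Finite Q] [TopologicalSpace Q] [DiscreteTopology Q] (π : G →* Q),
        Continuous π → ∃! ψ : Aut (forget₂ (ContAction FintypeCat.{u} G) FintypeCat.{u}) →* Q,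
          Continuous ψ ∧ ψ.comp ι = π := by
  let F := forget₂ (ContAction FintypeCat.{u} G) FintypeCat.{u}
  have hsmul : ∀ (X : ContAction FintypeCat.{u} G) (x : X.obj.V),
      IsOpen {g : G | (X.obj.ρ g).hom x = x} := by
    intro X x
    let Y := (forget₂ (Action FintypeCat.{u} G) TopCat).obj X.obj
    haveI : DiscreteTopology Y := ⟨rfl⟩
    haveI : ContinuousSMul G Y := X.2
    exact (continuousSMul_iff_stabilizer_isOpen.mp inferInstance) (show Y from x)
  let act : G → ∀ X : ContAction FintypeCat.{u} G, F.obj X ≅ F.obj X := fun g X =>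
    FintypeCat.equivEquivIso
      { toFun := fun x => (X.obj.ρ g).hom x
        invFun := fun x => (X.obj.ρ g⁻¹).hom x
        left_inv := fun x => by
          show (X.obj.ρ g⁻¹ * X.obj.ρ g).hom x = x
          rw [← map_mul, inv_mul_cancel, map_one]; rfl
        right_inv := fun x => by
          show (X.obj.ρ g * X.obj.ρ g⁻¹).hom x = x
          rw [← map_mul, mul_inv_cancel, map_one]; rfl }
  let ι : G →* Aut F :=
    { toFun := fun g => NatIso.ofComponents (act g) (fun {X Y} f => by
        apply ConcreteCategory.hom_ext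
        intro x
        exact ((ConcreteCategory.congr_hom (f.hom.comm g) x)).symm)
      map_one' := by
        apply Iso.ext
        ext X x
        show (X.obj.ρ 1).hom x = x
        rw [map_one]; rfl
      map_mul' := fun a b => by
        apply Iso.ext
        ext X x
        show (X.obj.ρ (a * b)).hom x = (X.obj.ρ a).hom ((X.obj.ρ b).hom x)
        rw [map_mul]; rfl }
  have happ : ∀ (g : G) (X : ContAction FintypeCat.{u} G) (x : X.obj.V),
      (ι g).hom.app X x = (X.obj.ρ g).hom x := fun g X x => rfl
  have hcont : Continuous ι := by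
    apply continuous_induced_rng.mpr
    refine continuous_pi fun X => ?_
    rw [continuous_discrete_rng]
    intro a
    rw [isOpen_iff_mem_nhds]
    intro g hg
    have hW : IsOpen ((fun h => g⁻¹ * h) ⁻¹' (⋂ x : X.obj.V, {k : G | (X.obj.ρ k).hom x = x})) :=
      (isOpen_iInter_of_finite fun x => hsmul X x).preimage (continuous_const_mul _)
    refine Filter.mem_of_superset (hW.mem_nhds (by
      rw [Set.mem_preimage, inv_mul_cancel]
      refine Set.mem_iInter.mpr fun x => ?_
      show (X.obj.ρ 1).hom x = x
      rw [map_one]; rfl)) ?_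
    intro h hh
    rw [Set.mem_preimage, Set.mem_iInter] at hh
    rw [Set.mem_preimage, Set.mem_singleton_iff] at hg ⊢
    rw [← hg]
    apply Iso.ext
    apply ConcreteCategory.hom_ext
    intro x
    show (X.obj.ρ h).hom x = (X.obj.ρ g).hom x
    conv_lhs => rw [← mul_inv_cancel_left g h, map_mul]
    show (X.obj.ρ g).hom ((X.obj.ρ (g⁻¹ * h)).hom x) = _
    rw [hh x]
  -- the object attached to a continuous homomorphism to a finite discrete group
  have key : ∀ (Q : Type u) [Group Q] [Finite Q] (π : G →* Q), IsOpen (π.ker : Set G) →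
      ∃ R : ContAction FintypeCat.{u} G, ∃ e : R.obj.V ≃ Q, ∀ g q, e ((R.obj.ρ g).hom q) = π g * e q := by
    intro Q _ _ π hπ
    letI : Fintype Q := Fintype.ofFinite Q
    letI : MulAction G (FintypeCat.of Q) :=
      { smul := fun g q => π g * q
        one_smul := fun q => by show π 1 * q = q; rw [map_one, one_mul]
        mul_smul := fun a b q => by show π (a * b) * q = π a * (π b * q); rw [map_mul, mul_assoc] }
    let A : Action FintypeCat.{u} G := Action.FintypeCat.ofMulAction G (FintypeCat.of Q)
    have hA : A.IsContinuous := by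
      haveI : DiscreteTopology ((forget₂ _ TopCat).obj A) := ⟨rfl⟩
      refine continuousSMul_iff_stabilizer_isOpen.mpr fun q => ?_
      refine Subgroup.isOpen_mono (H₁ := π.ker) (fun g hg => ?_) hπ
      show π g * (show Q from q) = (show Q from q)
      rw [MonoidHom.mem_ker.mp hg, one_mul]
    exact ⟨⟨A, hA⟩, Equiv.refl _, fun g q => rfl⟩
  -- equivariant maps
  have mor : ∀ (R X : ContAction FintypeCat.{u} G) (φ : R.obj.V → X.obj.V),
      (∀ g q, φ ((R.obj.ρ g).hom q) = (X.obj.ρ g).hom (φ q)) → ∀ (t : Aut F) (q : R.obj.V),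
      t.hom.app X (φ q) = φ (t.hom.app R q) := by
    intro R X φ hφ t q
    let f : R ⟶ X := ObjectProperty.homMk
      { hom := FintypeCat.homMk φ
        comm := fun g => by
          apply ConcreteCategory.hom_ext
          intro q
          exact hφ g q }
    exact ConcreteCategory.congr_hom (t.hom.naturality f) q
  have hdense : DenseRange ι := by
    rw [DenseRange, dense_iff_inter_open]
    rintro U hU ⟨t, ht⟩
    obtain ⟨O, hO, rfl⟩ := isOpen_induced_iff.mp hU
    obtain ⟨I, v, hv, hsub⟩ := isOpen_pi_iff.mp hO _ ht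
    let K : Subgroup G := ⨅ X : I, ⨅ x : X.1.obj.V,
      MulAction.stabilizer G (show (forget₂ (Action FintypeCat.{u} G) TopCat).obj X.1.obj from x)
    have hKmem : ∀ k, k ∈ K ↔ ∀ (X : I) (x : X.1.obj.V), (X.1.obj.ρ k).hom x = x := fun k => by
      rw [Subgroup.mem_iInf]
      refine forall_congr' fun X => ?_
      rw [Subgroup.mem_iInf]
      rfl
    haveI : K.Normal := ⟨fun k hk g => by
      rw [hKmem] at hk ⊢
      intro X x
      rw [map_mul, map_mul]
      show (X.1.obj.ρ g).hom ((X.1.obj.ρ k).hom ((X.1.obj.ρ g⁻¹).hom x)) = x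
      rw [hk]
      show (X.1.obj.ρ g * X.1.obj.ρ g⁻¹).hom x = x
      rw [← map_mul, mul_inv_cancel, map_one]; rfl⟩
    have hKo : IsOpen (K : Set G) := by
      have : (K : Set G) = ⋂ X : I, ⋂ x : X.1.obj.V, {k : G | (X.1.obj.ρ k).hom x = x} := by
        ext k
        simp only [SetLike.mem_coe, hKmem, Set.mem_iInter, Set.mem_setOf_eq]
      rw [this]
      exact isOpen_iInter_of_finite fun X => isOpen_iInter_of_finite fun x => hsmul X.1 x
    haveI : Finite (G ⧸ K) := by
      let Φ : G ⧸ K → ∀ X : I, X.1.obj.V → X.1.obj.V := fun q =>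
        Quotient.liftOn' q (fun g X x => (X.1.obj.ρ g).hom x) (fun a b hab => by
          rw [QuotientGroup.leftRel_apply, hKmem] at hab
          funext X x
          conv_rhs => rw [← mul_inv_cancel_left a b, map_mul]
          show _ = (X.1.obj.ρ a).hom ((X.1.obj.ρ (a⁻¹ * b)).hom x)
          rw [hab X x])
      refine Finite.of_injective Φ fun p q hpq => ?_
      obtain ⟨a, rfl⟩ := QuotientGroup.mk_surjective p
      obtain ⟨b, rfl⟩ := QuotientGroup.mk_surjective q
      rw [QuotientGroup.eq, hKmem]
      intro X x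
      have h1 : (X.1.obj.ρ a).hom x = (X.1.obj.ρ b).hom x := congrFun (congrFun hpq X) x
      rw [map_mul]
      show (X.1.obj.ρ a⁻¹).hom ((X.1.obj.ρ b).hom x) = x
      rw [← h1]
      show (X.1.obj.ρ a⁻¹ * X.1.obj.ρ a).hom x = x
      rw [← map_mul, inv_mul_cancel, map_one]; rfl
    obtain ⟨R, e, he⟩ := key (G ⧸ K) (QuotientGroup.mk' K) (by rwa [QuotientGroup.ker_mk'])
    obtain ⟨g, hg⟩ := QuotientGroup.mk_surjective (e (t.hom.app R (e.symm 1)))
    refine ⟨ι g, hsub fun X hX => ?_, g, rfl⟩
    have heq : ∀ x : X.obj.V, t.hom.app X x = (X.obj.ρ g).hom x := by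
      intro x
      let φ : R.obj.V → X.obj.V := fun q => Quotient.liftOn' (e q) (fun a => (X.obj.ρ a).hom x) (fun a b hab => by
        rw [QuotientGroup.leftRel_apply, hKmem] at hab
        show (X.obj.ρ a).hom x = (X.obj.ρ b).hom x
        conv_rhs => rw [← mul_inv_cancel_left a b, map_mul]
        show _ = (X.obj.ρ a).hom ((X.obj.ρ (a⁻¹ * b)).hom x)
        rw [hab ⟨X, hX⟩ x])
      have hφ : ∀ a q, φ ((R.obj.ρ a).hom q) = (X.obj.ρ a).hom (φ q) := by
        intro a q
        simp only [φ, he]
        obtain ⟨b, hb⟩ := QuotientGroup.mk_surjective (e q)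
        rw [← hb]
        show (X.obj.ρ (a * b)).hom x = _
        rw [map_mul]; rfl
      have h1 := mor R X φ hφ t (e.symm 1)
      have h2 : φ (e.symm 1) = x := by
        show Quotient.liftOn' (e (e.symm 1)) _ _ = x
        rw [e.apply_symm_apply]
        show (X.obj.ρ 1).hom x = x
        rw [map_one]; rfl
      rw [h2] at h1
      rw [h1]
      show Quotient.liftOn' (e (t.hom.app R (e.symm 1))) _ _ = _
      rw [← hg]
      rfl
    convert (hv X hX).2 using 1
    apply Iso.ext
    apply ConcreteCategory.hom_ext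
    intro x
    exact (heq x).symm
  refine ⟨ι, hcont, happ, hdense, ?_⟩
  intro Q _ _ _ _ π hπ
  have hker : IsOpen (π.ker : Set G) := (isOpen_discrete ({1} : Set Q)).preimage hπ
  obtain ⟨R, e, he⟩ := key Q π hker
  let f : Aut F → Q := fun t => e (t.hom.app R (e.symm 1))
  have hf : ∀ (t : Aut F) (q : Q), e (t.hom.app R (e.symm q)) = f t * q := by
    intro t q
    have h1 := mor R R (fun p => e.symm (e p * q)) (fun a p => e.injective (by
      rw [e.apply_symm_apply, he, he, e.apply_symm_apply, mul_assoc])) t (e.symm 1)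
    simp only [e.apply_symm_apply, one_mul] at h1
    rw [h1, e.apply_symm_apply]
  let ψ : Aut F →* Q := MonoidHom.mk' f fun a b => by
    show e (a.hom.app R (b.hom.app R (e.symm 1))) = f a * f b
    conv_lhs => rw [show b.hom.app R (e.symm 1) = e.symm (f b) from (e.symm_apply_apply _).symm]
    exact hf a (f b)
  have hψc : Continuous ψ := by
    have h0 : Continuous (fun σ : Aut (F.obj R) => e (σ.hom (e.symm 1))) := continuous_of_discreteTopology
    exact h0.comp ((continuous_apply R).comp (continuous_induced_dom (f := PreGaloisCategory.autEmbedding F)))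
  have hψ : ψ.comp ι = π := MonoidHom.ext fun g => by
    show e ((R.obj.ρ g).hom (e.symm 1)) = π g
    rw [he, e.apply_symm_apply, mul_one]
  refine ⟨ψ, ⟨hψc, hψ⟩, fun ψ' hψ' => ?_⟩
  apply MonoidHom.ext
  exact congrFun (hdense.equalizer hψ'.1 hψc (funext fun g =>
    (DFunLike.congr_fun hψ'.2 g).trans (DFunLike.congr_fun hψ g).symm))


end Groth.Pi1Profinite
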