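import Mathlib.CategoryTheory.Galois.IsFundamentalgroup
import Mathlib.CategoryTheory.Galois.Examples
import Mathlib.Topology.Algebra.Category.ProfiniteGrp.Completion

/-!
# The profinite completion as automorphisms of the forgetful functor of finite `G`-sets
-/

set_option linter.style.haveILetI false

universe u

open CategoryTheory CategoryTheory.PreGaloisCategory

namespace Groth.Pi1Profinite

variable {G : Type u} [Group G]

/-- The action on the underlying type as a homomorphism to permutations. -/
noncomputable def permHom (X : Action FintypeCat.{u} G) : G →* Equiv.Perm X.V :=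
  MonoidHom.mk' (fun g =>
    { toFun := fun x => (X.ρ g).hom x
      invFun := fun x => (X.ρ g⁻¹).hom x
      left_inv := fun x => by
        show (X.ρ g⁻¹ * X.ρ g).hom x = x
        rw [← map_mul, inv_mul_cancel, map_one]; rfl
      right_inv := fun x => by
        show (X.ρ g * X.ρ g⁻¹).hom x = x
        rw [← map_mul, mul_inv_cancel, map_one]; rfl })
    (fun a b => Equiv.ext fun x => by
      show (X.ρ (a * b)).hom x = (X.ρ a).hom ((X.ρ b).hom x)
      rw [map_mul]; rfl)

/-- Kernel of the action as an object of the index category of the completion. -/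
noncomputable def kerIdx (X : Action FintypeCat.{u} G) : FiniteIndexNormalSubgroup (GrpCat.of G) :=
  haveI : (permHom X).ker.FiniteIndex := ⟨by
    rw [Subgroup.index_ker]; exact Nat.card_pos.ne'⟩
  FiniteIndexNormalSubgroup.ofSubgroup (permHom X).ker

theorem exists_iso_completion_aut (G : Type u) [Group G] :
    ∃ φ : (ProfiniteGrp.ProfiniteCompletion.completion (GrpCat.of G)) ≃ₜ* Aut (Action.forget FintypeCat.{u} G),
      ∀ (g : G) (X : Action FintypeCat.{u} G) (x : X.V),
        (φ (ProfiniteGrp.ProfiniteCompletion.etaFn (GrpCat.of G) g)).hom.app X x = (X.ρ g).hom x := by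
  let F := Action.forget FintypeCat.{u} G
  let K := ProfiniteGrp.ProfiniteCompletion.completion (GrpCat.of G)
  let act : ∀ X : Action FintypeCat.{u} G, (G ⧸ (kerIdx X).toSubgroup) →* Equiv.Perm X.V := fun X =>
    QuotientGroup.lift (kerIdx X).toSubgroup (permHom X) (fun g hg => hg)
  letI inst : ∀ X : Action FintypeCat.{u} G, MulAction K (F.obj X) := fun X =>
    MulAction.compHom X.V
      ((act X).comp
        ({ toFun := fun k => k.1 (kerIdx X)
           map_one' := rfl
           map_mul' := fun _ _ => rfl } : K →* G ⧸ (kerIdx X).toSubgroup))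
  have hsmul : ∀ (X : Action FintypeCat.{u} G) (k : K) (x : F.obj X) (m : FiniteIndexNormalSubgroup (GrpCat.of G))
      (_ : m ≤ kerIdx X) (g : G), (g : G ⧸ m.toSubgroup) = k.1 m → k • x = (X.ρ g).hom x := by
    intro X k x m hm g hg
    show act X (k.1 (kerIdx X)) x = _
    rw [← k.2 (homOfLE hm), ← hg]
    rfl
  have hcont : ∀ X : Action FintypeCat.{u} G, ContinuousSMul K (F.obj X) := by
    intro X
    refine continuousSMul_iff_stabilizer_isOpen.mpr fun x => ?_
    have h : IsOpen {k : K | k.1 (kerIdx X) = 1} := by
      haveI : DiscreteTopology ((ProfiniteGrp.ProfiniteCompletion.diagram (GrpCat.of G)).obj (kerIdx X)) := ⟨rfl⟩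
      let p : K → (ProfiniteGrp.ProfiniteCompletion.diagram (GrpCat.of G)).obj (kerIdx X) := fun k => k.1 (kerIdx X)
      have hp : Continuous p := (continuous_apply (kerIdx X)).comp continuous_subtype_val
      have := (isOpen_discrete ({1} : Set ((ProfiniteGrp.ProfiniteCompletion.diagram (GrpCat.of G)).obj (kerIdx X)))).preimage hp
      exact this
    refine Subgroup.isOpen_of_mem_nhds _ (g := (1 : K)) (Filter.mem_of_superset (h.mem_nhds rfl) ?_)
    intro k hk
    show act X (k.1 (kerIdx X)) x = x
    exact (congrArg (fun q => act X q x) hk).trans (DFunLike.congr_fun (map_one (act X)) x)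
  haveI : IsNaturalSMul F K := ⟨fun k X Y f x => by
    obtain ⟨g, hg⟩ := QuotientGroup.mk_surjective (k.1 (kerIdx X ⊓ kerIdx Y))
    rw [hsmul X k x _ inf_le_left g hg, hsmul Y k _ _ inf_le_right g hg]
    exact ConcreteCategory.congr_hom (f.comm g) x⟩
  haveI : IsFundamentalGroup F K :=
    { transitive_of_isGalois := fun X _ => ⟨fun x y => by
        obtain ⟨g, hg⟩ := (FintypeCat.Action.pretransitive_of_isConnected G X).exists_smul_eq x y
        refine ⟨ProfiniteGrp.ProfiniteCompletion.etaFn (GrpCat.of G) g, ?_⟩
        rw [hsmul X _ x _ le_rfl g rfl]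
        exact hg⟩
      continuous_smul := hcont
      non_trivial' := fun k hk => by
        apply Subtype.ext
        funext m
        obtain ⟨g, hg⟩ := QuotientGroup.mk_surjective (k.1 m)
        haveI : Finite (G ⧸ m.toSubgroup) := Subgroup.finite_quotient_of_finiteIndex
        letI : Fintype (G ⧸ m.toSubgroup) := Fintype.ofFinite _
        let A : Action FintypeCat.{u} G :=
          Action.FintypeCat.ofMulAction G (FintypeCat.of (G ⧸ m.toSubgroup))
        have hle : m ≤ kerIdx A := by
          intro a ha
          show permHom A a = 1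
          refine Equiv.ext fun q => ?_
          obtain ⟨b, rfl⟩ := QuotientGroup.mk_surjective q
          show ((a * b : G) : G ⧸ m.toSubgroup) = b
          rw [QuotientGroup.eq]
          have := m.toSubgroup.inv_mem (Subgroup.Normal.conj_mem inferInstance a ha b⁻¹)
          simpa [mul_assoc] using this
        have h1 := hk A ((1 : G) : G ⧸ m.toSubgroup)
        have h1 : (A.ρ g).hom _ = _ := (hsmul A k _ m hle g hg).symm.trans h1
        change ((g * 1 : G) : G ⧸ m.toSubgroup) = _ at h1
        rw [mul_one] at h1
        exact hg.symm.trans h1 }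
  refine ⟨{ toAutMulEquiv F K with
      continuous_toFun := (toAut_isHomeomorph F K).continuous
      continuous_invFun := (toAutHomeo F K).continuous_symm }, fun g X x => ?_⟩
  show (ProfiniteGrp.ProfiniteCompletion.etaFn (GrpCat.of G) g : K) • (show F.obj X from x) = _
  exact hsmul X _ x _ le_rfl g rfl

end Groth.Pi1Profinite
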